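import Cfsg.Agent.O8S.MZ

/-! The 2-subgroups of the model: certificates. -/

set_option autoImplicit false
set_option maxRecDepth 100000
set_option Elab.async false

namespace Cfsg.Lib.O8S

open Cfsg.Lib.Spor Cfsg.Lib.Spor.Bulk Cfsg.Lib.Spor.PK Cfsg.Lib.Spor.WF Cfsg.Lib.StdW

namespace CSd

/-- a chain -/
def cS : List Cert :=
  [⟨6, [576, 705, 834, 452, 1025, 1154, 644, 1346, 772, 964, 1730, 1092, 1284, 1476, 1860], [[1, 0, 1], [2, 1,
    2], [3], [0, 1, 3, 1, 0]]⟩,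
     ⟨7, [769, 962, 1859, 1088, 1474, 1283, 641], [[0], [1, 3, 0, 2], [2, 1, 2]]⟩,
     ⟨3, [513, 322, 257], [[0], [1, 2, 1, 1], [2, 1]]⟩,
     ⟨1, [128], [[1, 0], [0, 2], [0, 1]]⟩,
     ⟨14, [1792, 1410, 1218], [[0, 1]]⟩,
     ⟨26, [2048], []⟩]

/-- a chain -/
def cA : List Cert :=
  [⟨404, [25792, 25729, 25669, 25345, 25285, 24901, 23877], [[4], [2], [3]]⟩,
     ⟨7, [640], [[0, 2], [0, 1]]⟩,
     ⟨1, [128], [[1]]⟩,
     ⟨3, [256], []⟩]

theorem lS : lowC MO WS cS 8192 = true := by decide +kernel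

theorem lA : lowC MO WA cA 64 = true := by decide +kernel

/-- conjugates of letters -/
def T : List (ℕ × ℕ × List ℕ) :=
  [(11, 4, [3]), (11, 3, [4]), (11, 1, [1]), (11, 19, [19]), (11, 18, [17]), (11, 17, [18]), (11, 2, [2]), (11,
    16, [14]), (11, 15, [15]), (11, 14, [16]), (11, 13, [13]), (11, 12, [12]), (4, 3, [3]), (4, 1, [1]), (4,
    19, [19]), (4, 18, [18]), (4, 17, [17, 19]), (4, 2, [2, 18]), (4, 16, [13, 16]), (4, 15, [14, 15]), (4,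
    14, [14]), (4, 13, [13]), (4, 12, [12]), (3, 1, [1]), (3, 19, [19]), (3, 18, [18, 19]), (3, 17, [17]), (3,
    2, [2, 17]), (3, 16, [16]), (3, 15, [15, 16]), (3, 14, [13, 14]), (3, 13, [13]), (3, 12, [12]), (1, 19,
    [13, 19]), (1, 18, [14, 18]), (1, 17, [16, 17]), (1, 2, [15, 2]), (1, 16, [16]), (1, 15, [15]), (1, 14,
    [14]), (1, 13, [13]), (1, 12, [12]), (19, 18, [18]), (19, 17, [17]), (19, 2, [2]), (19, 16, [16]), (19,
    15, [12, 15]), (19, 14, [14]), (19, 13, [13]), (19, 12, [12]), (18, 17, [17]), (18, 2, [2]), (18, 16, [12,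
    16]), (18, 15, [15]), (18, 14, [14]), (18, 13, [13]), (18, 12, [12]), (17, 2, [2]), (17, 16, [16]), (17,
    15, [15]), (17, 14, [12, 14]), (17, 13, [13]), (17, 12, [12]), (2, 16, [16]), (2, 15, [15]), (2, 14,
    [14]), (2, 13, [12, 13]), (2, 12, [12]), (16, 15, [15]), (16, 14, [14]), (16, 13, [13]), (16, 12, [12]),
    (15, 14, [14]), (15, 13, [13]), (15, 12, [12]), (14, 13, [13]), (14, 12, [12]), (13, 12, [12]), (1, 1,
    [1]), (2, 1, [15, 1]), (6, 1, [1]), (6, 16, [16]), (6, 15, [15, 1]), (6, 14, [14]), (6, 13, [13]), (6, 12,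
    [12, 13]), (7, 1, [1]), (7, 16, [15, 16]), (7, 15, [15]), (7, 14, [14]), (7, 13, [13, 14]), (7, 12, [12]),
    (8, 1, [1]), (8, 16, [16]), (8, 15, [15]), (8, 14, [14, 15]), (8, 13, [13, 16]), (8, 12, [12]), (5, 19,
    [19]), (5, 18, [18]), (5, 17, [17]), (5, 2, [2]), (5, 16, [16, 17]), (5, 15, [15, 2]), (5, 14, [14, 18]),
    (5, 13, [13, 19]), (5, 12, [12]), (7, 19, [18, 19]), (7, 18, [18]), (7, 17, [2, 17]), (7, 2, [2]), (8, 19,
    [17, 19]), (8, 18, [2, 18]), (8, 17, [17]), (8, 2, [2]), (9, 19, [14]), (9, 18, [15]), (9, 17, [18]), (9,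
    2, [2]), (9, 16, [19]), (9, 15, [17]), (9, 14, [16]), (9, 13, [13]), (9, 12, [12])]

/-- letters as words -/
def E : List (ℕ × List ℕ) :=
  [(19, [4, 2, 3, 2, 4, 2, 3, 2]), (18, [4, 2, 4, 2]), (17, [3, 2, 3, 2]), (16, [2, 3, 2, 1, 2, 3, 2, 1]), (15,
    [2, 1, 2, 1]), (14, [2, 4, 2, 1, 2, 4, 2, 1]), (13, [2, 3, 2, 4, 2, 3, 2, 1, 2, 3, 2, 4, 2, 3, 2, 1]),
    (12, [4, 3, 2, 4, 3, 1, 2, 4, 3, 1, 2, 4, 3, 1, 2, 1])]

theorem d1 : MO.decB B7 (andL T fun p => .eq [p.2.1, p.1] (p.1 :: p.2.2)) = true := by decide +kernel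

theorem d2 : MO.decB B7 (andL E fun p => .eq [p.1] p.2) = true := by decide +kernel

theorem d3 : MO.decB B7 (andL [11, 4, 3, 1, 19, 18, 17, 2, 16, 15, 14, 13, 12] fun l => .eq [l, l] []) = true := by
  decide +kernel

end CSd

end Cfsg.Lib.O8S
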