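import Cfsg.Agent.O8S.MSt

/-! The elementary abelian group of order 64 in the model: certificates. -/

set_option autoImplicit false
set_option maxRecDepth 100000
set_option synthInstance.maxSize 4096
set_option Elab.async false

namespace Cfsg.Lib.O8S

open Subgroup Cfsg.Lib.Spor Cfsg.Lib.Spor.Bulk Cfsg.Lib.Spor.PK Cfsg.Lib.Spor.WF
open Cfsg.Lib.Gold Cfsg.Lib.Trans Cfsg.Lib.StdSz Cfsg.Lib.StdW
open Cfsg.Lib.StdM (Cl)

namespace MAk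

/-- conjugating words for the singular vectors -/
def TS : List (List ℕ × List ℕ) :=
  [([12], []), ([12, 13], [6]), ([13], [6, 2]), ([12, 13, 14], [6, 7]), ([12, 13, 16], [6, 8]), ([13, 14], [6,
    2, 7]), ([13, 16], [6, 2, 8]), ([12, 14], [6, 7, 3]), ([12, 13, 14, 15, 16], [6, 7, 8]), ([12, 16], [6, 8,
    4]), ([14], [6, 2, 7, 3]), ([13, 14, 15, 16], [6, 2, 7, 8]), ([16], [6, 2, 8, 4]), ([12, 14, 15], [6, 7,
    3, 8]), ([12, 15, 16], [6, 7, 8, 4]), ([12, 14, 1, 15, 16], [6, 7, 8, 6]), ([14, 15], [6, 2, 7, 3, 8]),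
    ([15, 16], [6, 2, 7, 8, 4]), ([13, 14, 1, 15, 16], [6, 2, 7, 8, 6]), ([12, 15], [6, 7, 3, 8, 4]), ([12,
    13, 14, 1, 15], [6, 7, 3, 8, 6]), ([12, 13, 1, 15, 16], [6, 7, 8, 4, 6]), ([12, 14, 1, 16], [6, 7, 8, 6,
    2]), ([15], [6, 2, 7, 3, 8, 4]), ([14, 1, 15], [6, 2, 7, 3, 8, 6]), ([1, 15, 16], [6, 2, 7, 8, 4, 6]),
    ([12, 13, 14, 1, 16], [6, 2, 7, 8, 6, 2]), ([13, 1, 16], [6, 2, 7, 8, 6, 7]), ([13, 14, 1], [6, 2, 7, 8,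
    6, 8]), ([12, 13, 1, 15], [6, 7, 3, 8, 4, 6]), ([1, 15], [6, 2, 7, 3, 8, 4, 6]), ([14, 1], [6, 2, 7, 3, 8,
    6, 2]), ([1, 16], [6, 2, 7, 8, 4, 6, 2]), ([13, 1], [6, 2, 7, 8, 6, 7, 8]), ([1], [6, 2, 7, 3, 8, 4, 6,
    2])]

/-- conjugating words for the non-singular vectors -/
def TM : List (List ℕ × List ℕ) :=
  [([13, 15], []), ([12, 13, 15], [2]), ([13, 15, 16], [3]), ([13, 14, 15], [4]), ([13, 1, 15], [6]), ([12, 13,
    15, 16], [2, 3]), ([12, 13, 14, 15], [2, 4]), ([12, 1, 15], [2, 6]), ([14, 15, 16], [3, 4]), ([13, 1, 15,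
    16], [3, 6]), ([13, 14, 16], [3, 7]), ([13, 14, 1, 15], [4, 6]), ([12, 13, 1], [6, 2]), ([12, 14, 15, 16],
    [2, 3, 4]), ([12, 1, 15, 16], [2, 3, 6]), ([12, 13, 14, 16], [2, 3, 7]), ([12, 14, 1, 15], [2, 4, 6]),
    ([12, 1], [2, 6, 2]), ([14, 1, 15, 16], [3, 4, 6]), ([14, 16], [3, 4, 7]), ([12, 13, 1, 16], [3, 6, 2]),
    ([13, 14, 1, 16], [3, 6, 7]), ([12, 13, 14, 1], [4, 6, 2]), ([12, 13, 14, 1, 15, 16], [2, 3, 4, 6]), ([12,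
    14, 16], [2, 3, 4, 7]), ([12, 1, 16], [2, 3, 6, 2]), ([12, 14, 1], [2, 4, 6, 2]), ([14, 1, 16], [3, 4, 6,
    2])]

/-- a chain for the centraliser of `b` -/
def cb : List Cert :=
  [⟨105, [7169, 4934, 4807, 3594, 5766, 5639, 4362, 2503, 1480, 2442, 1353, 2378, 3015, 1864, 2954, 1737, 2890,
    968, 841, 2250, 904, 1288, 1161, 2762, 1224, 73, 1416, 137, 1800], [[7, 9, 10, 9, 7], [4], [1, 6, 10, 8,
    11, 8, 10, 6, 1], [6, 7, 10, 8, 9, 10, 7, 6]]⟩,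
     ⟨88, [2752, 5763, 2241, 1474, 1410, 4800, 1858, 1347, 1793, 4931, 1731], [[0, 3, 0], [0, 1, 2, 0, 2, 1, 0],
    [2], [3, 0, 3], [3, 1, 3]]⟩,
     ⟨17, [4032, 2177, 2691, 3457, 4227, 3268, 771], [[0, 3, 4, 3, 0], [0, 4, 2, 4, 0], [1, 4, 3]]⟩,
     ⟨36, [2816, 386, 578], [[0, 2, 2], [0, 1, 0]]⟩,
     ⟨2, [64, 2369, 2881], [[1, 0, 1]]⟩,
     ⟨16, [704], []⟩]

/-- the model with a subgroup of order nine -/
@[reducible] def M9 : PM := ⟨MO.w, MO.n, MO.cs, [([[3, 7], [4, 8]], [⟨3, [832, 961, 384, 2305, 449, 1601, 1537, 897], []⟩])]⟩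

instance : NeZero M9.n := inferInstanceAs (NeZero MO.n)

/-- an element of order seven -/
def w7 : List ℕ := [2, 3, 7, 6]

/-- relations -/
def RA : List (List ℕ × List ℕ) :=
  (WA.flatMap fun a => (a ++ a, []) :: WA.map fun b => (a ++ b, b ++ a)) ++
  TS.map (fun p => (12 :: p.2, p.2 ++ p.1)) ++ TM.map (fun p => (13 :: 15 :: p.2, p.2 ++ p.1)) ++
  [([17], [2, 3, 2, 3]), ([18], [2, 4, 2, 4]), ([19, 2], [3, 2, 4, 2, 4, 3, 2, 4, 2, 4, 2]),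
    ([25], [6, 7, 6, 7]), ([26], [6, 8, 6, 8]), (w7 ++ w7 ++ w7 ++ w7 ++ w7 ++ w7 ++ w7, []),
    ([3, 7, 12], [12, 3, 7]), ([4, 8, 12], [12, 4, 8])]

theorem RA_dec : MO.decB B7 (.and (.not (.eq w7 [])) (.and (.not (.eq [13, 15] []))
    (andL RA fun p => .eq p.1 p.2))) = true := by
  decide +kernel

theorem cb_ok : cenF MO Wb1 cb 92160 WA 64 = true := by decide +kernel

theorem M9_subs : M9.subsOK = true := by decide +kernel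

end MAk

end Cfsg.Lib.O8S
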