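import Cfsg.Agent.O8S.MXd

/-! The involutions of a Sylow subgroup of the automorphism group of `Ω₈⁺(2)`. -/

set_option autoImplicit false
set_option maxRecDepth 100000
set_option Elab.async false

namespace Cfsg.Lib.O8S.MCe

open Cfsg.Lib.Spor Cfsg.Lib.Spor.Bulk Cfsg.Lib.Spor.PK Cfsg.Lib.Spor.WF Cfsg.Lib.StdW

/-- a base -/
def B8 : List ℕ := [40, 26, 14, 7, 6, 3, 1, 0]

/-- the involutions of a coset of `Q` -/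
def fC (r : List ℕ) (G : List (List ℕ × List (List ℕ × List ℕ))) : Fm :=
  .all 0 40 (.imp (.eq ((r ++ [40]) ++ (r ++ [40])) []) (orL G fun g =>
    .and (.eq (1 :: (g.1 ++ [40])) (g.1 ++ [40, 1]))
      (orL g.2 fun t => .eq ((r ++ [40]) ++ t.1) (t.1 ++ t.2))))

/-- conjugating words -/
def G0 : List (List ℕ × List (List ℕ × List ℕ)) :=
  [([], [([], []), ([2, 6], [12]), ([17, 25], [12]), ([19, 27], [12]), ([18, 26], [12]), ([2, 3, 25],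
    [12]), ([], [13, 15]), ([2, 4, 26], [12]), ([4, 19, 27], [12]), ([3, 7, 3], [13, 15]), ([3,
    19, 27], [12]), ([4], [13, 15]), ([7, 3], [13, 15]), ([3], [13, 15]), ([3, 4], [13, 15]),
    ([6], [12]), ([25], [12]), ([26], [12]), ([27], [12]), ([2, 3, 4, 27], [12]), ([], [12]), ([3,
    25], [12]), ([4, 26], [12]), ([2], [13, 15]), ([3, 2, 7, 3], [13, 15]), ([4, 27], [12]), ([3,
    27], [12]), ([2, 7, 3], [13, 15]), ([2, 4], [13, 15]), ([2, 3], [13, 15]), ([3, 2, 4], [13,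
    15]), ([3, 4, 27], [12])]),
   ([2], [([13, 21], [12]), ([3, 7, 10], [13, 15]), ([1, 13, 21], [12]), ([4, 8, 9], [13, 15]),
    ([21], [12]), ([1, 3, 7, 10], [13, 15]), ([23, 1, 15, 5], [1, 3, 4]), ([1, 4, 8, 9], [13,
    15]), ([3, 2, 7, 10], [13, 15]), ([1, 21], [12]), ([4, 2, 8, 9], [13, 15]), ([5, 1, 6, 2], [1,
    3, 4]), ([1, 3, 2, 7, 10], [13, 15]), ([13, 23, 1, 15, 5], [1, 3, 4]), ([1, 4, 2, 8, 9], [13,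
    15]), ([5, 1, 6, 2, 14], [1, 3, 4])]),
   ([17], [([14, 22], [12]), ([10], [13, 15]), ([4, 1, 5, 1, 8, 9], [13, 15]), ([1, 14, 22], [12]),
    ([5, 1, 6, 2, 25, 17], [1, 3, 4]), ([1, 10], [13, 15]), ([22], [12]), ([4, 5, 1, 8, 9], [13,
    15]), ([2, 10], [13, 15]), ([5, 1, 25, 3, 17, 7], [1, 3, 4]), ([5, 3, 1, 4, 2, 8, 9], [13,
    15]), ([1, 22], [12]), ([6, 2, 23, 15, 25, 17], [1, 3, 4]), ([1, 2, 10], [13, 15]), ([5, 1, 4,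
    2, 8, 9], [13, 15]), ([23, 1, 15, 5, 25, 17], [1, 3, 4])]),
   ([2, 17], [([3, 13, 21], [12]), ([1, 3, 4, 8, 9], [13, 15]), ([3, 4, 8, 9], [13, 15]), ([7, 10],
    [13, 15]), ([3, 21], [12]), ([2, 7, 10], [13, 15]), ([1, 3, 13, 21], [12]), ([3, 5, 1, 6, 2],
    [1, 3, 4]), ([3, 23, 1, 15, 5], [1, 3, 4]), ([3, 1, 4, 2, 8, 9], [13, 15]), ([5, 6, 2, 15,
    17], [1, 3, 4]), ([3, 4, 2, 8, 9], [13, 15]), ([23, 1, 15, 5, 17], [1, 3, 4]), ([1, 7, 10],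
    [13, 15]), ([1, 3, 21], [12]), ([1, 2, 7, 10], [13, 15])]),
   ([18], [([16, 24], [12]), ([9], [13, 15]), ([1, 16, 24], [12]), ([3, 1, 5, 1, 7, 10], [13, 15]),
    ([1, 9], [13, 15]), ([5, 1, 6, 2, 26, 18], [1, 3, 4]), ([3, 5, 1, 7, 10], [13, 15]), ([24],
    [12]), ([5, 1, 26, 4, 18, 8], [1, 3, 4]), ([2, 9], [13, 15]), ([1, 24], [12]), ([5, 3, 1, 2,
    4, 7, 10], [13, 15]), ([1, 2, 9], [13, 15]), ([6, 2, 23, 15, 26, 18], [1, 3, 4]), ([5, 1, 3,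
    2, 7, 10], [13, 15]), ([23, 1, 15, 5, 26, 18], [1, 3, 4])]),
   ([2, 18], [([4, 13, 21], [12]), ([3, 4, 7, 10], [13, 15]), ([1, 3, 4, 7, 10], [13, 15]), ([8, 9],
    [13, 15]), ([4, 21], [12]), ([2, 8, 9], [13, 15]), ([1, 4, 13, 21], [12]), ([4, 23, 1, 15, 5],
    [1, 3, 4]), ([3, 2, 4, 7, 10], [13, 15]), ([23, 1, 15, 5, 18], [1, 3, 4]), ([4, 5, 1, 6, 2],
    [1, 3, 4]), ([3, 1, 2, 4, 7, 10], [13, 15]), ([5, 6, 2, 15, 18], [1, 3, 4]), ([1, 8, 9], [13,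
    15]), ([1, 4, 21], [12]), ([1, 2, 8, 9], [13, 15])]),
   ([17, 18], [([1, 3, 5, 7, 3], [13, 15]), ([7, 3, 6, 2, 26, 18], [1, 3, 4]), ([6, 2], [1, 3, 4]),
    ([1, 6, 2, 17, 18], [1, 3, 4]), ([3, 2, 5, 7, 3], [13, 15]), ([3, 1, 2, 5, 7, 3], [13, 15]),
    ([3, 5, 7, 3], [13, 15]), ([7, 6, 1, 2, 17, 26, 18], [1, 3, 4]), ([6, 2, 25, 17, 26, 18], [1,
    3, 4]), ([7, 3, 1, 6, 2, 26, 18], [1, 3, 4]), ([1, 6, 2, 14], [1, 3, 4]), ([6, 2, 14], [1, 3,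
    4]), ([1, 6, 2], [1, 3, 4]), ([3, 4, 6, 2], [1, 3, 4]), ([1, 3, 4, 6, 2], [1, 3, 4]), ([6, 2,
    17, 18], [1, 3, 4])]),
   ([2, 17, 18], [([1, 3, 4, 5], [13, 15]), ([5, 6, 2], [1, 3, 4]), ([3, 6, 2, 26, 18], [1, 3, 4]),
    ([4, 6, 2, 25, 17], [1, 3, 4]), ([1, 3, 2, 4, 5], [13, 15]), ([6, 2, 17, 26, 18], [1, 3, 4]),
    ([6, 2, 18, 25, 17], [1, 3, 4]), ([1, 5, 6, 2, 14], [1, 3, 4]), ([1, 5, 6, 2], [1, 3, 4]),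
    ([6, 1, 2, 18, 25, 17], [1, 3, 4]), ([6, 1, 2, 17, 26, 18], [1, 3, 4]), ([5, 6, 2, 14], [1, 3,
    4]), ([4, 1, 6, 2, 25, 17], [1, 3, 4]), ([3, 1, 6, 2, 26, 18], [1, 3, 4]), ([3, 2, 4, 5], [13,
    15]), ([3, 4, 5], [13, 15])]),
   ([19], [([15, 23], [12]), ([1, 15, 23], [12]), ([1, 5, 1, 9], [13, 15]), ([1, 5, 1, 10], [13,
    15]), ([5, 1, 9], [13, 15]), ([5, 1, 10], [13, 15]), ([23, 17, 15, 25, 17, 26, 18], [1, 3,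
    4]), ([23], [12]), ([7, 5, 3, 1, 6, 2, 26, 18], [1, 3, 4]), ([1, 23], [12]), ([1, 2, 5, 1, 9],
    [13, 15]), ([1, 2, 5, 1, 10], [13, 15]), ([2, 5, 1, 9], [13, 15]), ([2, 5, 1, 10], [13, 15]),
    ([23, 15, 25, 17, 26, 18], [1, 3, 4]), ([26, 25, 1, 17, 18, 23, 15], [1, 3, 4])]),
   ([2, 19], [([1, 5], [13, 15]), ([26, 4, 18, 8], [1, 3, 4]), ([25, 3, 17, 7], [1, 3, 4]), ([2, 5],
    [13, 15]), ([1, 2, 5], [13, 15]), ([5], [13, 15]), ([6, 1, 2, 17, 18, 23], [1, 3, 4]), ([26,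
    4, 15, 18, 8], [1, 3, 4]), ([13, 26, 4, 18, 8], [1, 3, 4]), ([1, 26, 4, 18, 8], [1, 3, 4]),
    ([25, 3, 15, 17, 7], [1, 3, 4]), ([13, 25, 3, 17, 7], [1, 3, 4]), ([1, 25, 3, 17, 7], [1, 3,
    4]), ([3, 4, 5, 6, 2], [1, 3, 4]), ([3, 1, 4, 5, 6, 2], [1, 3, 4]), ([5, 6, 2, 17, 18], [1, 3,
    4])]),
   ([17, 19], [([4, 14, 22], [12]), ([4, 10], [13, 15]), ([1, 4, 10], [13, 15]), ([1, 4, 14, 22],
    [12]), ([1, 5, 1, 8, 9], [13, 15]), ([4, 22], [12]), ([5, 1, 2, 3, 8, 9], [13, 15]), ([24, 3,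
    1, 4, 16, 5, 7], [1, 3, 4]), ([2, 4, 10], [13, 15]), ([24, 3, 1, 14, 16, 5, 7], [1, 3, 4]),
    ([5, 4, 1, 25, 3, 17, 7], [1, 3, 4]), ([1, 2, 4, 10], [13, 15]), ([23, 4, 1, 15, 5, 25, 17],
    [1, 3, 4]), ([5, 1, 8, 9], [13, 15]), ([1, 4, 22], [12]), ([2, 5, 1, 8, 9], [13, 15])]),
   ([2, 17, 19], [([1, 3, 5], [13, 15]), ([6, 2, 25, 17], [1, 3, 4]), ([3, 26, 4, 18, 8], [1, 3, 4]),
    ([6, 2, 15, 25, 17], [1, 3, 4]), ([1, 2, 3, 5], [13, 15]), ([26, 4, 17, 18, 8], [1, 3, 4]),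
    ([1, 6, 2, 25, 17], [1, 3, 4]), ([4, 5, 6, 2], [1, 3, 4]), ([4, 5, 6, 2, 14], [1, 3, 4]), ([6,
    2, 15, 18, 23], [1, 3, 4]), ([2, 3, 5], [13, 15]), ([6, 2, 1, 25, 17], [1, 3, 4]), ([1, 4, 5,
    6, 2], [1, 3, 4]), ([3, 5], [13, 15]), ([26, 1, 4, 17, 18, 8], [1, 3, 4]), ([3, 1, 26, 4, 18,
    8], [1, 3, 4])]),
   ([18, 19], [([3, 16, 24], [12]), ([3, 9], [13, 15]), ([1, 3, 9], [13, 15]), ([1, 3, 16, 24],
    [12]), ([1, 5, 1, 7, 10], [13, 15]), ([5, 1, 2, 4, 7, 10], [13, 15]), ([3, 24], [12]), ([5, 3,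
    1, 6, 2, 26, 18], [1, 3, 4]), ([22, 4, 1, 14, 5, 19, 8], [1, 3, 4]), ([2, 3, 9], [13, 15]),
    ([5, 3, 1, 26, 4, 18, 8], [1, 3, 4]), ([23, 3, 1, 15, 5, 26, 18], [1, 3, 4]), ([1, 2, 3, 9],
    [13, 15]), ([5, 1, 7, 10], [13, 15]), ([2, 5, 1, 7, 10], [13, 15]), ([1, 3, 24], [12])]),
   ([2, 18, 19], [([1, 4, 5], [13, 15]), ([6, 2, 26, 18], [1, 3, 4]), ([6, 2, 15, 26, 18], [1, 3,
    4]), ([4, 25, 3, 17, 7], [1, 3, 4]), ([1, 2, 4, 5], [13, 15]), ([25, 3, 17, 7, 18], [1, 3,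
    4]), ([1, 6, 2, 26, 18], [1, 3, 4]), ([3, 5, 6, 2], [1, 3, 4]), ([3, 5, 6, 2, 14], [1, 3, 4]),
    ([2, 4, 5], [13, 15]), ([6, 2, 15, 17, 23], [1, 3, 4]), ([6, 2, 1, 26, 18], [1, 3, 4]), ([1,
    3, 5, 6, 2], [1, 3, 4]), ([4, 5], [13, 15]), ([25, 1, 3, 17, 7, 18], [1, 3, 4]), ([4, 1, 25,
    3, 17, 7], [1, 3, 4])]),
   ([17, 18, 19], [([1, 5, 7, 3], [13, 15]), ([7, 3, 26, 4, 18, 8], [1, 3, 4]), ([4, 6, 2], [1, 3,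
    4]), ([25, 3, 1, 17, 7, 26, 18], [1, 3, 4]), ([1, 2, 5, 7, 3], [13, 15]), ([7, 3, 1, 26, 4,
    18, 8], [1, 3, 4]), ([4, 6, 2, 14], [1, 3, 4]), ([3, 6, 2], [1, 3, 4]), ([3, 6, 2, 14], [1, 3,
    4]), ([6, 2, 15, 17], [1, 3, 4]), ([2, 5, 7, 3], [13, 15]), ([25, 3, 17, 7, 26, 18], [1, 3,
    4]), ([5, 7, 3], [13, 15]), ([1, 3, 6, 2], [1, 3, 4]), ([6, 2, 15, 18], [1, 3, 4]), ([1, 4, 6,
    2], [1, 3, 4])]),
   ([2, 17, 18, 19], [([3, 4, 13, 21], [12]), ([4, 7, 10], [13, 15]), ([5, 1, 3, 4, 6, 2], [1, 3,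
    4]), ([3, 8, 9], [13, 15]), ([3, 4, 21], [12]), ([2, 4, 7, 10], [13, 15]), ([2, 3, 8, 9], [13,
    15]), ([5, 1, 6, 2, 17, 18], [1, 3, 4]), ([1, 3, 8, 9], [13, 15]), ([23, 1, 3, 4, 15, 5], [1,
    3, 4]), ([23, 1, 3, 15, 5, 18], [1, 3, 4]), ([1, 2, 3, 8, 9], [13, 15]), ([1, 4, 7, 10], [13,
    15]), ([1, 2, 4, 7, 10], [13, 15]), ([1, 3, 4, 13, 21], [12]), ([1, 3, 4, 21], [12])])]

/-- conjugating words -/
def G1 : List (List ℕ × List (List ℕ × List ℕ)) :=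
  [([], [([2, 6, 19, 27], [12]), ([2, 6, 27], [12]), ([17, 25, 26], [12]), ([6, 19, 27], [12]), ([18,
    25, 26], [12]), ([2, 4, 6, 27], [12]), ([6], [13, 15]), ([2, 3, 6, 27], [12]), ([2, 17, 25,
    26], [12]), ([2, 3, 4, 6], [13, 15]), ([2, 18, 25, 26], [12]), ([4, 6], [13, 15]), ([7, 3, 6],
    [13, 15]), ([3, 6], [13, 15]), ([3, 4, 6], [13, 15]), ([2, 6], [13, 15]), ([2, 4, 6, 2], [13,
    15]), ([2, 3, 6, 2], [13, 15]), ([6, 2], [13, 15]), ([2, 3, 25, 26], [12]), ([2, 6, 2], [13,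
    15]), ([2, 4, 6], [13, 15]), ([2, 3, 6], [13, 15]), ([6, 27], [12]), ([25, 26], [12]), ([4, 6,
    2], [13, 15]), ([3, 6, 2], [13, 15]), ([3, 25, 26], [12]), ([4, 6, 27], [12]), ([3, 6, 27],
    [12]), ([2, 25, 26], [12]), ([17, 4, 6], [13, 15])])]

/-- conjugating words -/
def G2 : List (List ℕ × List (List ℕ × List ℕ)) :=
  [([], [([7, 3, 16, 24], [13, 15]), ([7, 15, 3, 24], [13, 15]), ([7, 3, 24], [13, 15]), ([3, 7, 3,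
    24], [13, 15]), ([6, 25, 17, 26, 18], [1, 3, 4]), ([25, 17, 26, 18], [1, 3, 4]), ([26, 3, 15,
    18, 25, 17], [1, 3, 4]), ([15, 25, 17, 26, 18], [1, 3, 4])]),
   ([17, 18], [([1, 5, 7, 3, 24], [13, 15]), ([27, 3, 25, 19, 7, 8], [1, 3, 4]), ([26, 3, 1, 18, 8,
    25, 17], [1, 3, 4]), ([3, 2, 25, 17, 26, 18], [1, 3, 4]), ([5, 7, 3, 24], [13, 15]), ([3, 2,
    7, 3, 24], [13, 15]), ([7, 15, 3, 5, 24], [13, 15]), ([27, 3, 1, 25, 19, 7, 8], [1, 3, 4])]),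
   ([19], [([7, 3, 2, 16, 24], [13, 15]), ([5, 7, 15, 3, 24], [13, 15]), ([25, 15, 1, 17, 18, 26,
    18], [1, 3, 4]), ([17, 25, 17, 26, 18], [1, 3, 4]), ([17, 15, 25, 17, 26, 18], [1, 3, 4]),
    ([25, 1, 17, 18, 26, 18], [1, 3, 4]), ([7, 3, 2, 24], [13, 15]), ([1, 7, 3, 2, 24], [13,
    15])]),
   ([17, 18, 19], [([2, 7, 3, 16, 24], [13, 15]), ([14, 2, 25, 17, 26, 18], [1, 3, 4]), ([2, 7, 3,
    24], [13, 15]), ([2, 25, 17, 26, 18], [1, 3, 4]), ([26, 14, 18, 8, 25, 17], [1, 3, 4]), ([25,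
    1, 17, 7, 26, 18], [1, 3, 4]), ([1, 2, 7, 3, 24], [13, 15]), ([2, 3, 7, 3, 24], [13, 15])])]

/-- conjugating words -/
def G3 : List (List ℕ × List (List ℕ × List ℕ)) :=
  [([], [([], [1, 3, 4]), ([14], [1, 3, 4]), ([3, 15], [1, 3, 4]), ([15], [1, 3, 4]), ([15, 17, 18],
    [1, 3, 4]), ([6, 15, 17, 18], [1, 3, 4]), ([17, 18], [1, 3, 4]), ([3, 17, 18], [1, 3, 4])]),
   ([17, 18], [([1, 2, 18], [1, 3, 4]), ([1, 2, 17], [1, 3, 4]), ([2, 17], [1, 3, 4]), ([2, 18], [1,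
    3, 4]), ([2, 1, 17], [1, 3, 4]), ([2, 1, 18], [1, 3, 4]), ([2, 15, 18], [1, 3, 4]), ([2, 15,
    17], [1, 3, 4])]),
   ([19], [([1, 18], [1, 3, 4]), ([1, 17], [1, 3, 4]), ([18], [1, 3, 4]), ([17], [1, 3, 4]), ([15,
    17], [1, 3, 4]), ([15, 18], [1, 3, 4]), ([1, 15, 17], [1, 3, 4]), ([1, 15, 18], [1, 3, 4])]),
   ([17, 18, 19], [([1, 2], [1, 3, 4]), ([3, 2, 18], [1, 3, 4]), ([2, 17, 18], [1, 3, 4]), ([1, 2,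
    14], [1, 3, 4]), ([2, 14], [1, 3, 4]), ([1, 2, 17, 18], [1, 3, 4]), ([1, 3, 2, 18], [1, 3,
    4]), ([2], [1, 3, 4])])]

/-- conjugating words -/
def G4 : List (List ℕ × List (List ℕ × List ℕ)) :=
  [([], [([], [11]), ([27, 19], [11, 1]), ([6, 2], [11, 1]), ([3, 4, 6, 2, 14], [11, 1]), ([14],
    [11]), ([14, 27, 19], [11, 1]), ([6, 2, 14], [11, 1]), ([2, 27, 19], [11, 1]), ([6, 2, 19],
    [11, 1]), ([3, 4, 6, 2], [11, 1]), ([6, 2, 27, 19], [11, 1]), ([6, 2, 14, 17, 18], [11, 1]),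
    ([6, 2, 14, 27, 19], [11, 1]), ([2, 14, 27, 19], [11, 1]), ([6, 2, 14, 19], [11, 1]), ([6, 2,
    17, 18], [11, 1])]),
   ([17, 18], [([17], [11]), ([17, 27, 19], [11, 1]), ([6, 2, 3], [11, 1]), ([1, 6, 17, 4, 2], [11,
    1]), ([6, 1, 2, 3, 27, 19], [11, 1]), ([6, 2, 3, 27, 19], [11, 1]), ([1, 17], [11]), ([1, 2,
    17, 27, 19], [11, 1]), ([2, 17, 27, 19], [11, 1]), ([1, 17, 27, 19], [11, 1]), ([1, 6, 2, 3,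
    19], [11, 1]), ([6, 2, 3, 19], [11, 1]), ([1, 6, 2, 3], [11, 1]), ([3, 6, 2, 18], [11, 1]),
    ([1, 3, 6, 2, 18], [11, 1]), ([6, 17, 4, 2], [11, 1])]),
   ([2], [([1, 5, 6, 2], [11, 1]), ([5, 6, 2], [11, 1]), ([1, 5, 6, 2, 19], [11, 1]), ([1, 6, 2, 14,
    23], [11, 1]), ([5, 6, 2, 19], [11, 1]), ([6, 2, 14, 23], [11, 1]), ([6, 1, 2, 12, 14, 23],
    [11, 1]), ([6, 2, 12, 14, 23], [11, 1])]),
   ([2, 17, 18], [([1, 5, 6, 2, 14], [11, 1]), ([5, 6, 2, 3], [11, 1]), ([6, 1, 2, 12, 23, 14], [11,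
    1]), ([6, 1, 2, 3, 12, 23], [11, 1]), ([1, 5, 6, 2, 3], [11, 1]), ([5, 6, 2, 3, 19], [11, 1]),
    ([5, 6, 2, 14, 19], [11, 1]), ([5, 6, 2, 14], [11, 1])]),
   ([19], [([1, 5, 27, 19], [11, 1]), ([5, 27, 19], [11, 1]), ([1, 14, 5, 27, 19], [11, 1]), ([1, 2,
    5, 27, 19], [11, 1]), ([14, 5, 27, 19], [11, 1]), ([2, 5, 27, 19], [11, 1]), ([14, 1, 2, 5,
    27, 19], [11, 1]), ([2, 14, 5, 27, 19], [11, 1])]),
   ([2, 19], [([6, 3, 2, 15, 18, 23], [11, 1]), ([6, 2, 17, 18, 23, 14], [11, 1]), ([21, 1, 13, 14,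
    5, 17], [11, 1]), ([4, 3, 5, 6, 2, 14], [11, 1]), ([6, 1, 17, 4, 2, 23], [11, 1]), ([3, 5, 6,
    2, 18], [11, 1]), ([3, 1, 5, 6, 2, 18], [11, 1]), ([5, 6, 17, 4, 2], [11, 1])]),
   ([17, 18, 19], [([1, 5, 14, 27, 19], [11, 1]), ([5, 17, 27, 19], [11, 1]), ([15, 1, 5, 17, 27,
    19], [11, 1]), ([15, 1, 5, 14, 27, 19], [11, 1]), ([1, 5, 17, 27, 19], [11, 1]), ([2, 5, 14,
    27, 19], [11, 1]), ([2, 5, 17, 27, 19], [11, 1]), ([5, 14, 27, 19], [11, 1])]),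
   ([2, 17, 18, 19], [([3, 1, 4, 5, 6, 2], [11, 1]), ([5, 1, 3, 6, 2, 18], [11, 1]), ([6, 1, 2, 17,
    18, 23], [11, 1]), ([5, 1, 6, 17, 4, 2], [11, 1]), ([21, 1, 7, 13, 16, 5], [11, 1]), ([21, 1,
    14, 5, 8, 19], [11, 1]), ([3, 4, 5, 6, 2], [11, 1]), ([5, 6, 2, 17, 18], [11, 1])])]

/-- conjugating words -/
def G5 : List (List ℕ × List (List ℕ × List ℕ)) :=
  [([], [([], [11, 1]), ([19], [11, 1]), ([2], [11, 1]), ([3, 4, 2, 14], [11, 1]), ([14], [11, 1]),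
    ([14, 19], [11, 1]), ([2, 14], [11, 1]), ([6, 14, 17, 18], [11, 1]), ([2, 14, 17, 18], [11,
    1]), ([3, 4, 2], [11, 1]), ([14, 17, 18], [11, 1]), ([2, 19], [11, 1]), ([17, 18], [11, 1]),
    ([6, 17, 18], [11, 1]), ([2, 17, 18], [11, 1]), ([2, 14, 19], [11, 1])]),
   ([17, 18], [([1, 18], [11, 1]), ([1, 17], [11, 1]), ([17], [11, 1]), ([18], [11, 1]), ([1, 18,
    19], [11, 1]), ([1, 17, 19], [11, 1]), ([17, 19], [11, 1]), ([18, 19], [11, 1]), ([1, 2, 18],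
    [11, 1]), ([1, 2, 17], [11, 1]), ([2, 17], [11, 1]), ([2, 18], [11, 1]), ([2, 17, 19], [11,
    1]), ([2, 18, 19], [11, 1]), ([1, 2, 18, 19], [11, 1]), ([1, 2, 17, 19], [11, 1])])]

theorem h0 : MXa.decC MO WQ MXa.cQ 512 B8 (fC [] G0) = true := by decide +kernel

theorem h1 : MXa.decC MO WQ MXa.cQ 512 B8 (fC [1] G1) = true := by decide +kernel

theorem h2 : MXa.decC MO WQ MXa.cQ 512 B8 (fC [3, 4] G2) = true := by decide +kernel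

theorem h3 : MXa.decC MO WQ MXa.cQ 512 B8 (fC [1, 3, 4] G3) = true := by decide +kernel

theorem h4 : MXa.decC MO WQ MXa.cQ 512 B8 (fC [11] G4) = true := by decide +kernel

theorem h5 : MXa.decC MO WQ MXa.cQ 512 B8 (fC [11, 1] G5) = true := by decide +kernel

end Cfsg.Lib.O8S.MCe
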