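import Cfsg.Agent.O8S.MSt

/-! Computations in the centraliser of an involution of class 2B. -/

set_option autoImplicit false
set_option maxRecDepth 100000
set_option Elab.async false

namespace Cfsg.Lib.O8S.MWd

open Cfsg.Lib.Spor Cfsg.Lib.Spor.Bulk Cfsg.Lib.Spor.PK Cfsg.Lib.Spor.WF Cfsg.Lib.StdW

/-- the model -/
@[reducible] def MM : PM := ext []
  [([[26, 25, 18, 17], [25, 19, 2, 18, 17, 1]],
    [⟨1, [2496, 1153, 6720, 2881, 5632, 1345, 1409, 1473, 1856, 1217, 960, 2241, 832, 3009, 4352, 2433, 4928, 5761,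
    896, 4800, 1729, 7168, 2369, 2752, 3585, 2945, 1280, 129, 1793], [[1, 0, 0, 1, 0, 1, 0, 1, 0, 0, 1, 0, 0,
    1], [0, 1, 1, 0, 1, 0, 1, 0, 1]]⟩,
     ⟨3, [704, 2625, 256, 1089, 2304, 2177, 1024, 2113, 1984, 448, 769, 2816, 2689, 321, 3905, 1600, 640, 384,
    1921, 513, 3137, 576, 1537], [[1, 0, 1, 0], [1, 0, 0, 1, 1], [1, 1, 0, 1, 1, 1, 0, 1]]⟩,
     ⟨7, [768, 642, 1090], [[0, 1, 0], [1]]⟩,
     ⟨6, [576], [[0, 1]]⟩,
     ⟨26, [2048], []⟩]),
   ([[12], [13], [14], [1], [15], [16]],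
    [⟨26, [2048], [[0, 1], [0, 2], [4], [0, 5], [0, 3]]⟩,
     ⟨14, [1216], [[0, 1], [0, 3], [0, 4], [0, 2]]⟩,
     ⟨7, [640], [[0, 2], [0, 3], [1]]⟩,
     ⟨1, [128], [[1], [2]]⟩,
     ⟨3, [256], [[1]]⟩,
     ⟨6, [576], []⟩]),
   ([[17], [18], [25], [26], [19, 2], [11]],
    [⟨6, [704, 194, 3331, 453, 3523, 773, 324, 3457, 1668, 5249, 3204, 3268, 1602, 1539, 4740, 2115, 2178, 2307,
    3140], [[1, 3, 1, 4, 2, 4, 2, 4, 3], [5, 3, 2, 1]]⟩,
     ⟨7, [2304, 769, 3265, 3520, 5249, 3136, 2113, 1664], [[1, 0, 0, 0, 0], [1, 1, 0]]⟩,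
     ⟨3, [320, 4737, 3328], [[1, 0]]⟩,
     ⟨1, [3584], []⟩])]

/-- generators of the derived group -/
def WY : List (List ℕ) := [[26, 25, 18, 17], [25, 19, 2, 18, 17, 1]]

/-- generators of a complement -/
def WK : List (List ℕ) := [[17], [18], [25], [26], [19, 2], [11]]

/-- conjugating words -/
def Ly : List (List ℕ) := [[19, 2, 26, 25, 17], [25, 18], [18, 17]]

/-- inverting words -/
def Lu : List (List ℕ × List ℕ) := [([26, 25, 18, 17], [18, 17]), ([25, 19, 2, 18, 17, 1], [19, 2, 17, 16])]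

/-- the action on `A` -/
def LT : List (List ℕ × ℕ × List ℕ) :=
  [([17], 12, [12]), ([17], 13, [13]), ([17], 14, [12, 14]), ([17], 1, [1, 16]), ([17], 15, [15]), ([17], 16,
  [16]), ([18], 12, [12]), ([18], 13, [13]), ([18], 14, [14]), ([18], 1, [14, 1]), ([18], 15, [15]), ([18],
  16, [12, 16]), ([25], 12, [12, 14]), ([25], 13, [13]), ([25], 14, [14]), ([25], 1, [1]), ([25], 15, [15]),
  ([25], 16, [1, 16]), ([26], 12, [12, 16]), ([26], 13, [13]), ([26], 14, [14, 1]), ([26], 1, [1]), ([26], 15,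
  [15]), ([26], 16, [16]), ([19, 2], 12, [12]), ([19, 2], 13, [12, 13]), ([19, 2], 14, [14]), ([19, 2], 1,
  [12, 13, 1, 15]), ([19, 2], 15, [12, 15]), ([19, 2], 16, [16]), ([11], 12, [12]), ([11], 13, [13]), ([11],
  14, [16]), ([11], 1, [1]), ([11], 15, [15]), ([11], 16, [14])]

/-- the reflection -/
def wr : List ℕ := [3, 7, 3, 11, 3, 7, 3]

/-- words in the derived group -/
def XY : List (List ℕ) := Ly ++ Lu.map Prod.snd ++
  Wb0.flatMap (fun g => WY.map fun y => g ++ y ++ g) ++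
  Wb0.flatMap fun g => Wb0.map fun k => g ++ k ++ g ++ k

/-- equations -/
def fQ : Fm := .and (andL Wb0 fun g => .eq (g ++ g) [])
  (.and (andL LT fun p => .eq (p.2.1 :: p.1) (p.1 ++ p.2.2))
  (.and (andL Lu fun p => .eq (p.1 ++ p.2) (p.2 ++ p.1 ++ p.1))
  (.and (andL Ly fun y => .eq (y.reverse ++ y) [])
  (.and (andL WY fun y => .eq (y ++ wr) (wr ++ y))
  (.and (.eq (wr ++ wr) []) (.not (.eq (13 :: wr) (wr ++ [13]))))))))

/-- the fixed points of the derived group -/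
def fA : Fm := .all 1 40 (.imp (andL WY fun y => .eq (y ++ [40]) (40 :: y))
  (.or (.eq [40] []) (.eq [40] [13, 15])))

/-- the elements of the complement -/
def fK : Fm := .all 2 40 (.and (.imp (andL WA fun a => .eq (a ++ [40]) (40 :: a)) (.eq [40] []))
  (.or (orL Ly fun y => .not (.eq (y.reverse ++ 40 :: y ++ [40]) (40 :: (y.reverse ++ 40 :: y))))
    (.or (.eq [40] []) (.eq [40] wr))))

theorem MM_eq_1' : type_of% @MM.eq_1 := @MM.eq_1
theorem WY_eq_1' : type_of% @WY.eq_1 := @WY.eq_1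
theorem WK_eq_1' : type_of% @WK.eq_1 := @WK.eq_1
theorem Ly_eq_1' : type_of% @Ly.eq_1 := @Ly.eq_1
theorem Lu_eq_1' : type_of% @Lu.eq_1 := @Lu.eq_1
theorem LT_eq_1' : type_of% @LT.eq_1 := @LT.eq_1
theorem wr_eq_1' : type_of% @wr.eq_1 := @wr.eq_1
theorem XY_eq_1' : type_of% @XY.eq_1 := @XY.eq_1
theorem fQ_eq_1' : type_of% @fQ.eq_1 := @fQ.eq_1
theorem fA_eq_1' : type_of% @fA.eq_1 := @fA.eq_1
theorem fK_eq_1' : type_of% @fK.eq_1 := @fK.eq_1

theorem MM_ok : MM.ok = true := by decide +kernel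

theorem MM_subs : MM.subsOK = true := by decide +kernel

theorem MM_Y : memC MM WY (MM.K 0) 11520 XY = true := by decide +kernel

theorem MM_K : memC MM WK (MM.K 2) 1440 Ly = true := by decide +kernel

theorem MM_Q : MM.decB B7 fQ = true := by decide +kernel

theorem MM_A : MM.decB B7 fA = true := by decide +kernel

theorem MM_E : MM.decB B7 fK = true := by decide +kernel

end Cfsg.Lib.O8S.MWd
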