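import Cfsg.Agent.O8S.MSt

/-! Computations in the centraliser of a root element of `Ω₈⁺(2)`. -/

set_option autoImplicit false
set_option maxRecDepth 100000
set_option Elab.async false

namespace Cfsg.Lib.O8S.MXa

open Cfsg.Lib.Spor Cfsg.Lib.Spor.Bulk Cfsg.Lib.Spor.PK Cfsg.Lib.Spor.WF Cfsg.Lib.StdW

/-- generators of a complement -/
def WL : List (List ℕ) := [[1], [3], [4], [5], [7], [8], [9], [11]]

/-- generators of the centraliser of `γ` in `Q` -/
def WD : List (List ℕ) := [[13], [15], [2], [19], [13, 2, 13, 2], [14, 16], [17, 18]]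

/-- representatives of the involutions of the complement -/
def RP : List (List ℕ) := [[11, 1], [3, 4], [1, 3, 4], [11], [1]]

/-- conjugating words -/
def UL : List (List ℕ) := [[], [9], [9, 9], [3]]

/-- coset representatives -/
def C8 : List (List ℕ) := [[], [1], [3], [4], [1, 3], [1, 4], [3, 4], [1, 3, 4]]

/-- the elements of `A` outside `Q` -/
def AW : List (List ℕ) :=
  [[1], [1, 12], [1, 13], [1, 12, 13], [1, 14], [1, 12, 14], [1, 13, 14], [1, 12, 13, 14], [1, 15],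
  [1, 12, 15], [1, 13, 15], [1, 12, 13, 15], [1, 14, 15], [1, 12, 14, 15], [1, 13, 14, 15], [1,
  12, 13, 14, 15], [1, 16], [1, 12, 16], [1, 13, 16], [1, 12, 13, 16], [1, 14, 16], [1, 12, 14,
  16], [1, 13, 14, 16], [1, 12, 13, 14, 16], [1, 15, 16], [1, 12, 15, 16], [1, 13, 15, 16], [1,
  12, 13, 15, 16], [1, 14, 15, 16], [1, 12, 14, 15, 16], [1, 13, 14, 15, 16], [1, 12, 13, 14, 15,
  16]]

/-- decide a formula with quantifiers over one subgroup of known order -/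
noncomputable def decC (M : PM) (W : List (List ℕ)) (cert : List Cert) (N : ℕ) (B : List ℕ)
    (p : Fm) : Bool :=
  chB M W cert N [] fun _ P lvs _ => forceL M.cs fun cs =>
    forceL (B.map fun b => Nat.mul P.w b) fun B' =>
      p.evB P B' (fun _ => lvs) fun l q => Nat.land (Nat.shiftRight (nth P.o cs l) q) P.m

/-- a chain -/
def cQ : List Cert :=
  [⟨3, [258, 324, 516], [[5, 5, 2, 7, 2], [3, 6, 5], [5, 4, 0, 4, 4, 0, 4], [3, 1, 5], [6, 0, 3], [0, 1, 7]]⟩,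
     ⟨6, [1025, 706, 580], [[1, 0, 1], [4, 3, 2], [0], [5], [1, 3]]⟩,
     ⟨7, [1089, 643, 771], [[2], [1, 4], [0]]⟩,
     ⟨14, [1408, 1217, 1793], [[0, 2]]⟩,
     ⟨26, [2048], []⟩]

/-- a chain -/
def cD : List Cert :=
  [⟨306, [20096, 20421, 21189], [[4, 0, 2, 0], [3, 4], [4, 6], [4, 1]]⟩,
     ⟨295, [19265, 19458, 19970], [[3], [0], [1, 3, 1]]⟩,
     ⟨294, [19392], [[1], [0, 2]]⟩,
     ⟨284, [18688], [[1]]⟩,
     ⟨84, [6272], []⟩]

/-- a chain -/
def cN : List Cert :=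
  [⟨0, [], [[0], [1], [2], [3], [4], [5], [6], [7]]⟩,
     ⟨105, [4740, 4933, 4806, 5255, 5568, 3269, 3206, 3591, 5761, 2502, 3463, 5635, 3527, 6146, 7172, 4037, 3974,
    4359, 1670, 2439, 2375, 3014, 4231, 3335, 4295, 2054, 2951, 2887, 2247, 4103, 2759], [[0], [2], [1], [5,
    1, 6, 3, 6, 5]]⟩,
     ⟨1, [], [[0], [1], [2], [3]]⟩,
     ⟨127, [7040, 6785, 6850, 4547, 6209, 5186, 5891, 4866, 3075, 6915, 4418, 3395, 5123, 4995, 4483], []⟩]

/-- a chain -/
def c1 : List Cert :=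
  [⟨16, [1729, 516, 1797, 9670, 1095, 2629, 10374, 1863, 9158, 2690, 10438, 18374, 18311, 9734, 3906, 11270,
    19142, 19015, 10502, 17798, 11334, 19078, 12550, 19974, 19911, 21190], [[3], [2], [1, 5, 6, 7, 1, 6, 2,
    5]]⟩,
     ⟨27, [2690, 1793, 514], [[0, 1, 2, 0, 2], [1, 1, 0]]⟩,
     ⟨17, [1856], [[0, 0], [1]]⟩,
     ⟨29, [], [[0], [1]]⟩,
     ⟨28, [], [[0], [1]]⟩,
     ⟨61, [], [[0], [1]]⟩,
     ⟨41, [], [[0], [1]]⟩,
     ⟨42, [], [[0], [1]]⟩,
     ⟨136, [], [[0], [1]]⟩,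
     ⟨137, [], [[0], [1]]⟩,
     ⟨152, [11264, 10433], [[1, 0]]⟩,
     ⟨164, [], [[0]]⟩,
     ⟨163, [11264], []⟩]

/-- a chain -/
def c2 : List Cert :=
  [⟨1, [128, 3, 8710, 8774, 8646, 17350, 17414, 17286], [[7, 1, 0, 3, 0], [7, 1, 5], [1, 2, 5]]⟩,
     ⟨2, [0], [[0, 1, 0], [2]]⟩,
     ⟨16, [3904, 2625, 1088, 1792, 2689, 1857, 1729, 512], [[1, 1, 1, 0, 0, 1, 1], [0, 1]]⟩,
     ⟨27, [512, 2689, 1793], [[0, 1, 1]]⟩,
     ⟨17, [1856], []⟩]

/-- a chain -/
def c3 : List Cert :=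
  [⟨1, [128, 3, 8710, 8774, 8646, 17350, 17414, 17286], [[7, 5, 1], [1, 4, 5], [0, 3, 0, 5, 5]]⟩,
     ⟨2, [2], [[0], [1]]⟩,
     ⟨16, [512, 2625, 1088, 1793, 3904, 1728, 2688, 1857], [[0, 1, 1, 1, 1], [1, 1, 0, 1]]⟩,
     ⟨17, [1857, 2624, 3905], [[0]]⟩,
     ⟨27, [2688], []⟩]

/-- the involutions of the complement -/
def fL : Fm := andL (C8 ++ C8.map (· ++ [11])) fun w => .imp (.eq (w ++ w) []) (.or (.eq w [])
  (orL UL fun u => orL RP fun r => .eq (w ++ u) (u ++ r)))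

/-- equations -/
def fE : Fm := .and (.eq [12, 12] []) (.and (.eq [11, 11] [])
  (andL WL fun w => .eq (20 :: w) (w ++ [20])))

/-- the involutions of the coset of `x` -/
def fX : Fm := .all 0 40 (.imp (.eq [1, 40, 1, 40] []) (orL AW fun a => .eq [1, 40] a))

/-- the involutions of the coset of `γ` -/
def fG : Fm := .all 0 40 (.imp (.eq [11, 40, 11, 40] []) (andL WD fun d =>
  .or (.eq ([11, 40] ++ d) (d ++ [11, 40])) (.eq ([11, 40] ++ d) (d ++ [11, 40, 12]))))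

theorem MO_L : MO.decB B7 (.and fL fE) = true := by decide +kernel

theorem MO_X : decC MO WQ cQ 512 B7 fX = true := by decide +kernel

theorem MO_G : decC MO WQ cQ 512 B7 fG = true := by decide +kernel

theorem low_D : lowC MO WD cD 128 = true := by decide +kernel

theorem cen0 : cenF MO WQ cN 512 [[20]] 1 = true := by decide +kernel

theorem cen1 : cenF MO WL c1 1296 [[3, 4]] 48 = true := by decide +kernel

theorem cen2 : cenF MO WL c2 1296 [[1, 3, 4]] 48 = true := by decide +kernel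

theorem cen3 : cenF MO WL c3 1296 [[11, 1]] 24 = true := by decide +kernel

end Cfsg.Lib.O8S.MXa
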