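import Cfsg.Agent.O8S.MSt

/-! The centraliser of `z` in the model: certificates. -/

set_option autoImplicit false
set_option maxRecDepth 100000
set_option Elab.async false

namespace Cfsg.Lib.O8S

open Cfsg.Lib.Spor Cfsg.Lib.Spor.Bulk Cfsg.Lib.Spor.PK Cfsg.Lib.Spor.WF Cfsg.Lib.StdW

namespace MZd

/-- small subgroups -/
def SW : List (List (List ℕ) × List Cert) :=
  [([[2], [17], [18], [19]], [⟨3, [320], [[3], [1], [2]]⟩,
     ⟨6, [705], [[2], [0]]⟩,
     ⟨7, [768], [[1]]⟩,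
     ⟨14, [1408], []⟩]),
   ([[1, 5], [9]], [⟨0, [128, 8641, 64, 8769, 17281, 8705, 17409, 17345], [[1, 0, 1, 1], [1, 1, 0, 1]]⟩,
     ⟨3, [832, 961, 384, 2305, 449, 1601, 1537, 897], []⟩]),
   ([[3, 7], [4, 8]], [⟨3, [832, 961, 384, 2305, 449, 1601, 1537, 897], []⟩])]

theorem ok : (ext [] SW).ok = true := by decide +kernel

theorem subs : (ext [] SW).subsOK = true := by decide +kernel

/-- commutators -/
def DQ : List (List ℕ × List ℕ) := [([13], [19, 13]), ([14], [18, 14]), ([15], [2, 15]), ([16], [17, 16]),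
  ([2], [15]), ([17], [16]), ([18], [14]), ([19], [13])]

/-- elements of order three -/
def O2 : List (List ℕ × List ℕ × List ℕ) := [([1], [1, 5], [1, 5]), ([3], [3, 7], [3, 7]),
  ([4], [4, 8], [4, 8]), ([1, 3], [1, 5], [1, 5]), ([1, 4], [1, 5], [1, 5]), ([3, 4], [3, 7], [3, 7]),
  ([1, 3, 4], [1, 5], [1, 5]), ([11], [3, 7], [7, 3, 4, 8]), ([1, 11], [1, 5], [1, 5]),
  ([3, 11], [3, 7], [7, 3, 4, 8]), ([4, 11], [3, 7], [7, 3, 8, 4]), ([1, 3, 11], [1, 5], [1, 5]),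
  ([1, 4, 11], [1, 5], [1, 5]), ([3, 4, 11], [3, 7], [7, 3, 8, 4]), ([1, 3, 4, 11], [1, 5], [1, 5])]

/-- conjugating elements -/
def GN : List (List ℕ × List ℕ) := [([1], []), ([3], [9]), ([4], [9, 9]), ([5], [5, 1]), ([7], [9, 7, 3]),
  ([8], [9, 9, 8, 4])]

/-- equations -/
def EQ : List (List ℕ × List ℕ) := [([12], [13, 2, 13, 2]), ([12, 12], []), ([11, 11], []),
  ([1, 5, 1, 5], [5, 1]), ([1, 3, 7], [3, 7, 1]), ([1, 4, 8], [4, 8, 1])]

theorem d1 : MO.decB B7 (andL EQ fun p => .eq p.1 p.2) = true := by decide +kernel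

theorem d2 : MO.decB B7 (.and (.not (.eq [12] [])) (.and (.not (.eq [2, 1] [1, 2]))
    (.not (.eq [2, 1] [1, 2, 12])))) = true := by decide +kernel

theorem d3 : MO.decB B7 (andL WQ fun a => andL WQ fun b =>
    .or (.eq (b ++ a) (a ++ b)) (.eq (b ++ a) (a ++ b ++ [12]))) = true := by decide +kernel

theorem d4 : MO.decB B7 (andL DQ fun p => .eq (p.2 ++ [1, 5] ++ p.1) ([1, 5] ++ p.2)) = true := by
  decide +kernel

theorem d5 : MO.decB B7 (andL O2 fun p => .and (.eq (p.2.1 ++ p.2.2 ++ p.1) (p.1 ++ p.2.1))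
    (.and (.eq (p.2.2 ++ p.2.2 ++ p.2.2) []) (.not (.eq p.2.2 [])))) = true := by decide +kernel

theorem d6 : MO.decB B7 (andL GN fun p => .eq ([1] ++ p.2) (p.2 ++ p.1)) = true := by decide +kernel

theorem d7 : (ext [] SW).decB B7 (.all 0 30 (.imp (.or (.or (.eq [30, 1] [1, 30]) (.eq [30, 1] [1, 30, 12]))
    (andL [13, 14, 15, 16] fun l => .eq [l, 30] [30, l])) (.eq [30] []))) = true := by decide +kernel

theorem d8 : (ext [] SW).decB B7 (.all 1 30 (.imp (andL [13, 14, 15, 16, 2, 17, 18, 19] fun l =>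
    .eq [l, 30] [30, l]) (.eq [30] []))) = true := by decide +kernel

theorem d9 : MO.decB B7 (andL [12, 13, 14, 1, 15, 16].sublists fun w => .imp (andL [2, 17, 18, 19] fun l =>
    .eq (l :: w) (w ++ [l])) (.or (.eq w []) (.eq w [12]))) = true := by decide +kernel

end MZd

end Cfsg.Lib.O8S
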